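import Groth.Agent.Lib.NormalTensor.Main
import Groth.Agent.Lib.AdicExtra.FiniteAlg
import Groth.Agent.Lib.AdicLim.Finite
import Groth.Agent.Lib.Unibranch.Etale
import Groth.Agent.Lib.Ratliff.FormallyCatenary
import Groth.Agent.Lib.FormalDescent.Basic
import Groth.Agent.Lib.RegCompl.Basic
import Groth.Prelude.Def_CAlg2

/-!
# Unibranch local rings with geometrically normal formal fibres
-/

set_option autoImplicit false
set_option linter.style.haveILetI false
universe u

open IsLocalRing TensorProduct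

namespace GrothLib.FormalUnibranch

variable (A : Type u) [CommRing A] [IsLocalRing A] [IsNoetherianRing A]

theorem isNormalHom_cpl (hA : EGA4.HasGeomNormalFormalFibres A) : EGA4.IsNormalHom A (EGA4.Cpl A) :=
  ⟨AdicCompletion.flat_of_isNoetherian _, fun p _ => hA p⟩

/-- The completion tensor an integral local algebra is local, with the same residue field. -/
theorem tensor_local (B : Type u) [CommRing B] [IsLocalRing B] [Algebra A B] [Algebra.IsIntegral A B]
    (hinj : Nontrivial (EGA4.Cpl A ⊗[A] B)) :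
    IsLocalRing (EGA4.Cpl A ⊗[A] B) ∧
      ∀ (n : Ideal (EGA4.Cpl A ⊗[A] B)) [n.IsMaximal],
        (∀ z : EGA4.Cpl A ⊗[A] B, ∃ b : B, z - (1 : EGA4.Cpl A) ⊗ₜ[A] b ∈ n) ∧
        (∀ c : EGA4.Cpl A, ∃ a : A, c ⊗ₜ[A] (1 : B) - (1 : EGA4.Cpl A) ⊗ₜ[A] algebraMap A B a ∈ n) ∧
        (∀ b : B, (1 : EGA4.Cpl A) ⊗ₜ[A] b ∈ n ↔ b ∈ maximalIdeal B) := by
  set C := EGA4.Cpl A
  haveI := hinj
  have key : ∀ (n : Ideal (C ⊗[A] B)) [n.IsMaximal],
      (∀ z : C ⊗[A] B, ∃ b : B, z - (1 : C) ⊗ₜ[A] b ∈ n) ∧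
      (∀ c : C, ∃ a : A, c ⊗ₜ[A] (1 : B) - (1 : C) ⊗ₜ[A] algebraMap A B a ∈ n) ∧
      (∀ b : B, (1 : C) ⊗ₜ[A] b ∈ n ↔ b ∈ maximalIdeal B) := by
    intro n _
    have hC : n.comap (algebraMap C (C ⊗[A] B)) = maximalIdeal C :=
      IsLocalRing.eq_maximalIdeal (Ideal.isMaximal_comap_of_isIntegral_of_isMaximal n)
    have hc : ∀ c : C, ∃ a : A, c ⊗ₜ[A] (1 : B) - (1 : C) ⊗ₜ[A] algebraMap A B a ∈ n := fun c => by
      obtain ⟨a, ha⟩ := GrothLib.RegCompl.exists_sub_mem_map (maximalIdeal A) (IsNoetherian.noetherian _) c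
      refine ⟨a, ?_⟩
      rw [← AdicCompletion.maximalIdeal_eq_map, ← hC, Ideal.mem_comap, map_sub] at ha
      rw [show (1 : C) ⊗ₜ[A] algebraMap A B a = algebraMap A C a ⊗ₜ[A] (1 : B) by
        rw [Algebra.algebraMap_eq_smul_one, Algebra.algebraMap_eq_smul_one, smul_tmul]]
      exact ha
    refine ⟨fun z => ?_, hc, fun b => ?_⟩
    · induction z using TensorProduct.induction_on with
      | zero => exact ⟨0, by simp⟩
      | tmul c b =>
        obtain ⟨a, ha⟩ := hc c
        refine ⟨algebraMap A B a * b, ?_⟩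
        have h := n.mul_mem_right ((1 : C) ⊗ₜ[A] b) ha
        rwa [sub_mul, Algebra.TensorProduct.tmul_mul_tmul, Algebra.TensorProduct.tmul_mul_tmul, mul_one, one_mul,
          one_mul] at h
      | add z w hz hw =>
        obtain ⟨b, hb⟩ := hz
        obtain ⟨b', hb'⟩ := hw
        refine ⟨b + b', ?_⟩
        rw [tmul_add, add_sub_add_comm]
        exact n.add_mem hb hb'
    · let ι : B →+* C ⊗[A] B := (Algebra.TensorProduct.includeRight : B →ₐ[A] C ⊗[A] B).toRingHom
      haveI : (n.comap ι).IsPrime := Ideal.IsPrime.comap _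
      have hm : maximalIdeal A ≤ (n.comap ι).comap (algebraMap A B) := fun a ha => by
        show (1 : C) ⊗ₜ[A] algebraMap A B a ∈ n
        rw [Algebra.algebraMap_eq_smul_one, ← smul_tmul, ← Algebra.algebraMap_eq_smul_one]
        have : algebraMap A C a ∈ n.comap (algebraMap C (C ⊗[A] B)) := by
          rw [hC, AdicCompletion.maximalIdeal_eq_map]
          exact Ideal.mem_map_of_mem _ ha
        exact this
      have hmax : ((n.comap ι).comap (algebraMap A B)).IsMaximal :=
        (maximalIdeal.isMaximal A).eq_of_le (Ideal.IsPrime.ne_top inferInstance) hm ▸ maximalIdeal.isMaximal A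
      have := Ideal.isMaximal_of_isIntegral_of_isMaximal_comap (R := A) (n.comap ι) hmax
      rw [← IsLocalRing.eq_maximalIdeal this]
      rfl
  refine ⟨?_, key⟩
  obtain ⟨n₀, hn₀⟩ := Ideal.exists_maximal (C ⊗[A] B)
  refine IsLocalRing.of_unique_max_ideal ⟨n₀, hn₀, fun n hn => ?_⟩
  refine hn.eq_of_le hn₀.ne_top fun z hz => ?_
  haveI := hn
  haveI := hn₀
  obtain ⟨h1, h2, h3⟩ := key n
  obtain ⟨h1', h2', h3'⟩ := key n₀
  have hdiff : ∀ z : C ⊗[A] B, ∃ b : B, z - (1 : C) ⊗ₜ[A] b ∈ n ∧ z - (1 : C) ⊗ₜ[A] b ∈ n₀ := by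
    intro z
    induction z using TensorProduct.induction_on with
    | zero => exact ⟨0, by simp, by simp⟩
    | tmul c b =>
      obtain ⟨a, ha⟩ := GrothLib.RegCompl.exists_sub_mem_map (maximalIdeal A) (IsNoetherian.noetherian _) c
      rw [← AdicCompletion.maximalIdeal_eq_map] at ha
      refine ⟨algebraMap A B a * b, ?_⟩
      have hboth : ∀ (m : Ideal (C ⊗[A] B)), m.IsMaximal → c ⊗ₜ[A] b - (1 : C) ⊗ₜ[A] (algebraMap A B a * b) ∈ m := by
        intro m hm
        haveI := hm
        have hC : m.comap (algebraMap C (C ⊗[A] B)) = maximalIdeal C :=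
          IsLocalRing.eq_maximalIdeal (Ideal.isMaximal_comap_of_isIntegral_of_isMaximal m)
        rw [← hC, Ideal.mem_comap] at ha
        have h := m.mul_mem_right ((1 : C) ⊗ₜ[A] b) ha
        rw [← Algebra.smul_def a b, ← smul_tmul, ← Algebra.algebraMap_eq_smul_one, ← sub_tmul]
        rwa [show algebraMap C (C ⊗[A] B) (c - algebraMap A C a) = (c - algebraMap A C a) ⊗ₜ[A] (1 : B) from rfl,
          Algebra.TensorProduct.tmul_mul_tmul, mul_one, one_mul] at h
      exact ⟨hboth n hn, hboth n₀ hn₀⟩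
    | add z w hz hw =>
      obtain ⟨b, hb, hb0⟩ := hz
      obtain ⟨b', hb', hb0'⟩ := hw
      refine ⟨b + b', ?_⟩
      rw [tmul_add, add_sub_add_comm]
      exact ⟨n.add_mem hb hb', n₀.add_mem hb0 hb0'⟩
  obtain ⟨b, hb, hb0⟩ := hdiff z
  have hbB : b ∈ maximalIdeal B := (h3 b).1 (by
    have := n.sub_mem hz hb
    rwa [sub_sub_cancel] at this)
  have := n₀.add_mem hb0 ((h3' b).2 hbB)
  rwa [sub_add_cancel] at this

/-- The completion tensor a normal local domain integral over the ring is a normal local domain. -/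
theorem tensor_normal_domain (hA : EGA4.HasGeomNormalFormalFibres A) (B : Type u) [CommRing B] [IsDomain B]
    [IsIntegrallyClosed B] [IsLocalRing B] [Algebra A B] [Algebra.IsIntegral A B] :
    IsLocalRing (EGA4.Cpl A ⊗[A] B) ∧ IsDomain (EGA4.Cpl A ⊗[A] B) ∧
      IsIntegrallyClosed (EGA4.Cpl A ⊗[A] B) := by
  have hn : EGA4.IsNormalRing (EGA4.Cpl A ⊗[A] B) := GrothLib.Excellent.isNormalRing_congr
    (Algebra.TensorProduct.comm A B (EGA4.Cpl A)).toRingEquiv
    (GrothLib.NormalTensor.isNormalRing_baseChange (isNormalHom_cpl A hA)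
      (GrothLib.NormalHom.isNormalRing_of_isDomain B))
  haveI : Module.FaithfullyFlat A (EGA4.Cpl A) := GrothLib.Excellent.faithfullyFlat_cpl A
  haveI hnt : Nontrivial (EGA4.Cpl A ⊗[A] B) :=
    (Module.FaithfullyFlat.tensorProduct_mk_injective (A := A) (B := EGA4.Cpl A) B).nontrivial
  obtain ⟨hloc, -⟩ := tensor_local A B hnt
  haveI := hloc
  obtain ⟨hd, -⟩ := hn (maximalIdeal _)
  haveI := hd
  haveI : IsDomain (EGA4.Cpl A ⊗[A] B) := (IsLocalization.atUnits (EGA4.Cpl A ⊗[A] B) (maximalIdeal _).primeCompl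
    (S := Localization.AtPrime (maximalIdeal (EGA4.Cpl A ⊗[A] B))) fun x hx => notMem_maximalIdeal.1 hx).toMulEquiv.isDomain _
  exact ⟨hloc, inferInstance, GrothLib.NormalHom.isIntegrallyClosed_of_isNormalRing _ hn⟩

omit [IsNoetherianRing A] in
/-- The normalisation of a unibranch ring. -/
theorem normRed_facts (hu : CAlg2.IsUnibranch A) :
    IsDomain (CAlg2.normRed A) ∧ IsIntegrallyClosed (CAlg2.normRed A) ∧ Algebra.IsIntegral A (CAlg2.normRed A) := by
  haveI := hu.1
  haveI : Algebra.IsIntegral A (CAlg2.red A) :=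
    Algebra.IsIntegral.of_surjective (Algebra.ofId A (CAlg2.red A)) Ideal.Quotient.mk_surjective
  refine ⟨inferInstance, integralClosure.isIntegrallyClosedOfFiniteExtension (FractionRing (CAlg2.red A)),
    Algebra.IsIntegral.trans (CAlg2.red A)⟩

/-- The completion of a unibranch ring with geometrically normal formal fibres has one minimal prime. -/
theorem isDomain_cpl_quotient (hA : EGA4.HasGeomNormalFormalFibres A) (hu : CAlg2.IsUnibranch A) :
    IsDomain (EGA4.Cpl A ⧸ (nilradical A).map (algebraMap A (EGA4.Cpl A))) := by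
  haveI := hu.1
  haveI := hu.2
  obtain ⟨h1, h2, h3⟩ := normRed_facts A hu
  haveI := h1
  haveI := h2
  haveI := h3
  obtain ⟨-, hd, -⟩ := tensor_normal_domain A hA (CAlg2.normRed A)
  haveI := hd
  let j : CAlg2.red A →ₐ[A] CAlg2.normRed A := IsScalarTower.toAlgHom A (CAlg2.red A) (CAlg2.normRed A)
  have hj : Function.Injective j := fun x y h =>
    IsFractionRing.injective (CAlg2.red A) (FractionRing (CAlg2.red A)) (congrArg Subtype.val h :)
  let e := (Algebra.TensorProduct.quotIdealMapEquivQuotTensor (EGA4.Cpl A) (nilradical A)).toRingEquiv.trans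
    (Algebra.TensorProduct.comm A (CAlg2.red A) (EGA4.Cpl A)).toRingEquiv
  haveI : Module.Flat A (EGA4.Cpl A) := AdicCompletion.flat_of_isNoetherian _
  exact ((Module.Flat.lTensor_preserves_injective_linearMap (M := EGA4.Cpl A) j.toLinearMap hj).comp
    e.injective).isDomain ((Algebra.TensorProduct.map (AlgHom.id A (EGA4.Cpl A)) j).toRingHom.comp e.toRingHom)

omit [IsLocalRing A] [IsNoetherianRing A] in
theorem ringKrullDim_quotient_nilradical : ringKrullDim (A ⧸ nilradical A) = ringKrullDim A := by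
  refine le_antisymm (ringKrullDim_le_of_surjective _ Ideal.Quotient.mk_surjective) ?_
  have hp : ∀ p : PrimeSpectrum A, (p.asIdeal.map (Ideal.Quotient.mk (nilradical A))).IsPrime := fun p =>
    Ideal.map_isPrime_of_surjective Ideal.Quotient.mk_surjective (by rw [Ideal.mk_ker]; exact nilradical_le_prime _)
  have hc : ∀ p : PrimeSpectrum A,
      (p.asIdeal.map (Ideal.Quotient.mk (nilradical A))).comap (Ideal.Quotient.mk (nilradical A)) = p.asIdeal := fun p => by
    rw [Ideal.comap_map_of_surjective _ Ideal.Quotient.mk_surjective, ← RingHom.ker_eq_comap_bot, Ideal.mk_ker,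
      sup_eq_left.2 (nilradical_le_prime _)]
  refine Order.krullDim_le_of_strictMono (fun p => (⟨_, hp p⟩ : PrimeSpectrum (A ⧸ nilradical A))) fun p q hpq => ?_
  refine lt_of_le_of_ne (Ideal.map_mono hpq.le) fun h => hpq.ne (PrimeSpectrum.ext ?_)
  rw [← hc p, ← hc q]
  exact congrArg (fun x : PrimeSpectrum _ => x.asIdeal.comap (Ideal.Quotient.mk (nilradical A))) h

/-- Unibranch with geometrically normal formal fibres implies universally catenary. -/
theorem isUniversallyCatenary_of_unibranch (hA : EGA4.HasGeomNormalFormalFibres A) (hu : CAlg2.IsUnibranch A) :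
    CAlg.IsUniversallyCatenary A := by
  have hp0 : (nilradical A).IsPrime := (Ideal.Quotient.isDomain_iff_prime _).1 hu.1
  have hfe : EGA4.IsFormallyEquidim A := by
    rw [GrothLib.Ratliff.isFormallyEquidim_iff]
    have huniq : ∀ p ∈ minimalPrimes A, p = nilradical A := fun p hp => by
      haveI := hp.1.1
      exact le_antisymm (hp.2 ⟨hp0, bot_le⟩ (nilradical_le_prime p)) (nilradical_le_prime p)
    refine ⟨fun p hp => ?_, fun p _ hp => ?_⟩
    · rw [huniq p hp, nilradical]
      exact ringKrullDim_quotient_nilradical A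
    · obtain rfl := huniq p hp
      haveI := hp0
      haveI : IsLocalRing (A ⧸ nilradical A) :=
        IsLocalRing.of_surjective' (Ideal.Quotient.mk _) Ideal.Quotient.mk_surjective
      rw [GrothLib.Ratliff.isFormallyEquidim_quotient_iff]
      haveI := isDomain_cpl_quotient A hA hu
      intro q hq
      rw [IsDomain.minimalPrimes_eq_singleton_bot, Set.mem_singleton_iff] at hq
      subst hq
      exact ringKrullDim_eq_of_ringEquiv (RingEquiv.quotientBot _)
  refine GrothLib.Ratliff.isUniversallyCatenary_of_isFormallyCatenary A fun p _ => ?_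
  haveI : IsLocalRing (A ⧸ p) := IsLocalRing.of_surjective' (Ideal.Quotient.mk p) Ideal.Quotient.mk_surjective
  refine ((GrothLib.Ratliff.formallyEquidim_basic hfe).2 p).1 fun q hq => ?_
  rw [IsDomain.minimalPrimes_eq_singleton_bot, Set.mem_singleton_iff] at hq
  subst hq
  exact ringKrullDim_eq_of_ringEquiv (RingEquiv.quotientBot _)

/-- A finite domain over a complete local ring is local. -/
theorem isLocalRing_of_finite_domain {R S : Type u} [CommRing R] [IsLocalRing R] [IsNoetherianRing R]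
    [IsAdicComplete (maximalIdeal R) R] [CommRing S] [IsDomain S] [Algebra R S] [Module.Finite R S] :
    IsLocalRing S := by
  set J := (maximalIdeal R).map (algebraMap R S)
  haveI : IsAdicComplete (maximalIdeal R) S := GrothLib.AdicLim.isAdicComplete_of_finite (maximalIdeal R) S
  haveI : IsAdicComplete J S := (IsAdicComplete.map_algebraMap_iff _ _).2 ‹_›
  have hJmem : ∀ (M : Ideal S), M.IsMaximal → J ≤ M := fun M hM =>
    (IsAdicComplete.le_jacobson_bot J).trans (sInf_le ⟨bot_le, hM⟩)
  have hS : ∀ M₁ M₂ : Ideal S, M₁.IsMaximal → M₂.IsMaximal → M₁ = M₂ := by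
    intro M₁ M₂ h1 h2
    by_contra hne
    let I := J.radical
    have hI : ∀ M : Ideal S, M.IsMaximal → I ≤ M := fun M hM => hM.isPrime.radical_le_iff.2 (hJmem M hM)
    haveI : IsArtinianRing (S ⧸ J) := by
      letI : Field (R ⧸ maximalIdeal R) := Ideal.Quotient.field _
      exact IsArtinianRing.of_finite (R ⧸ maximalIdeal R) (S ⧸ J)
    haveI : IsArtinianRing (S ⧸ I) := (Ideal.Quotient.factor_surjective (Ideal.le_radical : J ≤ I)).isArtinianRing
    haveI : _root_.IsReduced (S ⧸ I) :=
      (Ideal.isRadical_iff_quotient_reduced _).1 (Ideal.radical_isRadical J)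
    let N : ∀ M : Ideal S, M.IsMaximal → MaximalSpectrum (S ⧸ I) := fun M hM =>
      ⟨M.map (Ideal.Quotient.mk I),
        Ideal.IsMaximal.map_of_surjective_of_ker_le Ideal.Quotient.mk_surjective (by rw [Ideal.mk_ker]; exact hI M hM)⟩
    have hN : ∀ (M : Ideal S) (hM : M.IsMaximal) (x : S), Ideal.Quotient.mk I x ∈ (N M hM).asIdeal → x ∈ M := by
      intro M hM x hx
      have : x ∈ (M.map (Ideal.Quotient.mk I)).comap (Ideal.Quotient.mk I) := hx
      rwa [Ideal.comap_map_of_surjective _ Ideal.Quotient.mk_surjective, ← RingHom.ker_eq_comap_bot,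
        Ideal.mk_ker, sup_eq_left.2 (hI M hM)] at this
    obtain ⟨e, he, he1, he2⟩ := GrothLib.Unibranch.exists_isIdempotentElem_separating (N M₁ h1) (N M₂ h2) (by
      intro h
      refine hne (le_antisymm ?_ ?_)
      · exact fun x hx => hN M₂ h2 x (h ▸ Ideal.mem_map_of_mem _ hx)
      · exact fun x hx => hN M₁ h1 x (h.symm ▸ Ideal.mem_map_of_mem _ hx))
    obtain ⟨e', he', hee'⟩ := exists_isIdempotentElem_eq_of_ker_isNilpotent
      (Ideal.Quotient.factor (Ideal.le_radical : J ≤ I)) (fun x hx => by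
        obtain ⟨x, rfl⟩ := Ideal.Quotient.mk_surjective x
        rw [RingHom.mem_ker, Ideal.Quotient.factor_mk, Ideal.Quotient.eq_zero_iff_mem] at hx
        obtain ⟨m, hm⟩ := hx
        exact ⟨m, by rw [← map_pow, Ideal.Quotient.eq_zero_iff_mem]; exact hm⟩) e (Ideal.Quotient.factor_surjective _ e) he
    obtain ⟨s, hs, hss⟩ := GrothLib.AdicExtra.surjOn_idempotents J (show IsIdempotentElem e' from he')
    have hsE : Ideal.Quotient.mk I s = e := by
      rw [← Ideal.Quotient.factor_mk Ideal.le_radical s, hss, hee']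
    rcases (IsIdempotentElem.iff_eq_zero_or_one.1 hs : s = 0 ∨ s = 1) with h0 | h0
    · rw [h0, map_zero] at hsE
      exact h2.ne_top ((Ideal.eq_top_iff_one _).2 (hN M₂ h2 1 (by rw [map_one]; simpa [← hsE] using he2)))
    · rw [h0, map_one] at hsE
      exact h1.ne_top ((Ideal.eq_top_iff_one _).2 (hN M₁ h1 1 (by rw [map_one]; simpa [← hsE] using he1)))
  obtain ⟨M, hM⟩ := Ideal.exists_maximal S
  exact IsLocalRing.of_unique_max_ideal ⟨M, hM, fun M' hM' => hS M' M hM' hM⟩

end GrothLib.FormalUnibranch
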